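import Mathlib

/-!
Computed data for `PSU₃(5)` over the concrete field of order `25`: a subgroup `3.A₇` seen on a
conjugacy class of `105` involutions, and a Sylow `5`-subgroup with a torus element.
-/

set_option autoImplicit false
set_option maxRecDepth 100000

namespace CfsgLib.KnownA.PSU35

open Matrix

/-- The field of order `25`. -/
abbrev K25 : Type := QuadraticAlgebra (ZMod 5) 2 0

/-- The matrix with a given code. -/
def ofCode (c : ℕ) : Matrix (Fin 3) (Fin 3) K25 := fun i j =>
  ⟨((c / 25 ^ (3 * (i : ℕ) + j) % 25 % 5 : ℕ) : ZMod 5),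
    ((c / 25 ^ (3 * (i : ℕ) + j) % 25 / 5 : ℕ) : ZMod 5)⟩

/-- The code of a matrix. -/
def code (M : Matrix (Fin 3) (Fin 3) K25) : ℕ :=
  ((List.range 9).map fun n =>
    ((M (Fin.ofNat 3 (n / 3)) (Fin.ofNat 3 n)).re.val +
      5 * (M (Fin.ofNat 3 (n / 3)) (Fin.ofNat 3 n)).im.val) * 25 ^ n).sum

/-- Unitarity over `K25`. -/
def IsSU (W : Matrix (Fin 3) (Fin 3) K25) : Prop :=
  W.det = 1 ∧ W.transpose * W.map (fun x => x * x * x * x * x) = 1

instance (W : Matrix (Fin 3) (Fin 3) K25) : Decidable (IsSU W) := instDecidableAnd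

/-- A primitive cube root of unity. -/
def omega : K25 := ⟨2, 2⟩

/-- First generator of `3.A₇`. -/
def gA : Matrix (Fin 3) (Fin 3) K25 := !![⟨0, 4⟩, ⟨4, 4⟩, ⟨4, 4⟩; ⟨3, 2⟩, ⟨0, 1⟩, ⟨0, 2⟩; ⟨3, 1⟩, ⟨2, 0⟩, ⟨0, 0⟩]

/-- Second generator of `3.A₇`. -/
def gB : Matrix (Fin 3) (Fin 3) K25 := !![⟨0, 3⟩, ⟨2, 4⟩, ⟨3, 1⟩; ⟨0, 4⟩, ⟨0, 3⟩, ⟨1, 0⟩; ⟨1, 0⟩, ⟨3, 1⟩, ⟨1, 3⟩]

/-- An element moving the class. -/
def gOut : Matrix (Fin 3) (Fin 3) K25 := !![⟨1, 0⟩, ⟨0, 0⟩, ⟨0, 0⟩; ⟨0, 0⟩, ⟨1, 1⟩, ⟨0, 2⟩; ⟨0, 0⟩, ⟨0, 2⟩, ⟨1, 4⟩]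

/-- First generator of the Sylow subgroup. -/
def uA : Matrix (Fin 3) (Fin 3) K25 := !![⟨1, 0⟩, ⟨1, 0⟩, ⟨2, 0⟩; ⟨4, 0⟩, ⟨3, 0⟩, ⟨4, 0⟩; ⟨3, 0⟩, ⟨4, 0⟩, ⟨4, 0⟩]

/-- Second generator of the Sylow subgroup. -/
def uB : Matrix (Fin 3) (Fin 3) K25 := !![⟨1, 0⟩, ⟨0, 1⟩, ⟨0, 2⟩; ⟨0, 1⟩, ⟨2, 0⟩, ⟨2, 0⟩; ⟨0, 2⟩, ⟨2, 0⟩, ⟨0, 0⟩]

/-- The central generator of the Sylow subgroup. -/
def uZ : Matrix (Fin 3) (Fin 3) K25 := !![⟨1, 0⟩, ⟨0, 0⟩, ⟨0, 0⟩; ⟨0, 0⟩, ⟨1, 1⟩, ⟨0, 2⟩; ⟨0, 0⟩, ⟨0, 2⟩, ⟨1, 4⟩]

/-- A torus element. -/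
def uH : Matrix (Fin 3) (Fin 3) K25 := !![⟨3, 3⟩, ⟨0, 0⟩, ⟨0, 0⟩; ⟨0, 0⟩, ⟨4, 2⟩, ⟨4, 2⟩; ⟨0, 0⟩, ⟨1, 3⟩, ⟨4, 2⟩]

/-- The codes of the `105` involutions. -/
def invList : List ℕ := [
    177530141976, 538263174703, 315439992476, 71934415052,
    395937754027, 196748200603, 164561521676, 126758930777,
    324737200500, 241886084975, 248144632403, 557725124925,
    418096151326, 66309285353, 33399557027, 608242351001,
    567999485303, 109990234379, 60782724101, 102403228027,
    364981337375, 410029784276, 499228634301, 610351766075,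
    140205646653, 225499552025, 245459028178, 532149877803,
    416143112476, 517812862701, 314219526476, 139473363253,
    17599129726, 38780733401, 175078726702, 485392011703,
    23712286026, 515615479001, 240177342725, 300137315452,
    263067392326, 564571698578, 439522656254, 290351902653,
    459718373752, 134834595478, 185255233725, 571905664178,
    310792583128, 549414843754, 610352844302, 464854705653,
    580615783500, 127002784452, 125538277727, 531417391703,
    256954095426, 574355970550, 374668062377, 544863919625,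
    149015150351, 270645764450, 302090260652, 320821355900,
    163829113576, 63379484153, 373203377152, 389092336851,
    239932857550, 345420793625, 373935857227, 23956474226,
    217676163353, 474873206626, 978127500, 572149680103,
    494336693325, 588681807251, 167744729802, 246923979353,
    140947829778, 587217168951, 264043778776, 561387349625,
    51250718253, 281797456052, 609219097051, 92383283628,
    13936951726, 202861715853, 413203554426, 152188989501,
    345909303875, 211904710652, 610352500378, 274063707550,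
    302334667827, 436827137275, 206523534903, 252061779450,
    422011939852, 433154552777, 258662921276, 556016142450,
    489941919925]

/-- Conjugation by `gA`. -/
def tabA : List ℕ := [
    1, 3, 5, 0, 8, 9, 11, 12, 14, 2, 17, 19, 21, 23, 4, 26,
    27, 29, 15, 6, 33, 7, 35, 36, 38, 28, 18, 41, 43, 10, 20, 47,
    49, 30, 51, 52, 13, 55, 57, 59, 60, 16, 45, 25, 65, 66, 63, 64,
    69, 62, 70, 71, 22, 73, 75, 76, 44, 24, 79, 80, 81, 83, 32, 85,
    31, 56, 42, 68, 89, 91, 86, 34, 92, 93, 61, 96, 37, 98, 72, 82,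
    39, 40, 58, 74, 77, 46, 50, 101, 99, 67, 87, 48, 78, 53, 103, 102,
    54, 94, 84, 104, 95, 90, 100, 97, 88]

/-- Conjugation by `gB`. -/
def tabB : List ℕ := [
    2, 4, 6, 7, 0, 10, 1, 13, 15, 16, 18, 20, 22, 24, 25, 17,
    28, 30, 31, 32, 34, 9, 26, 37, 39, 11, 40, 42, 44, 45, 46, 48,
    47, 50, 14, 53, 54, 56, 58, 3, 61, 62, 63, 64, 21, 67, 8, 68,
    5, 27, 43, 72, 49, 74, 38, 77, 78, 75, 71, 66, 82, 12, 84, 52,
    86, 35, 87, 88, 90, 92, 93, 36, 57, 94, 95, 97, 29, 85, 83, 89,
    73, 55, 99, 23, 91, 100, 33, 98, 76, 70, 19, 102, 80, 96, 69, 65,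
    79, 51, 104, 103, 81, 60, 41, 101, 59]

/-- An earlier involution from which each is reached. -/
def parent : List ℕ := [
    0, 0, 0, 1, 1, 2, 2, 3, 4, 5, 5, 6, 7, 7, 8, 8,
    9, 10, 10, 11, 11, 12, 12, 13, 13, 14, 15, 16, 16, 17, 17, 18,
    19, 20, 20, 22, 23, 23, 24, 24, 26, 27, 27, 28, 28, 29, 30, 31,
    31, 32, 33, 34, 35, 35, 36, 37, 37, 38, 38, 39, 40, 40, 41, 42,
    43, 44, 45, 45, 47, 48, 50, 51, 51, 53, 53, 54, 55, 55, 56, 58,
    59, 60, 60, 61, 62, 63, 64, 66, 67, 68, 68, 69, 69, 70, 73, 74,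
    75, 75, 77, 82, 85, 87, 91, 94, 98]

/-- The generator used. -/
def usedGen : List ℕ := [
    0, 0, 1, 0, 1, 0, 1, 1, 0, 0, 1, 0, 0, 1, 0, 1,
    1, 0, 1, 0, 1, 0, 1, 0, 1, 1, 0, 0, 1, 0, 1, 1,
    1, 0, 1, 0, 0, 1, 0, 1, 1, 0, 1, 0, 1, 1, 1, 0,
    1, 0, 1, 0, 0, 1, 1, 0, 1, 0, 1, 0, 0, 1, 1, 1,
    1, 0, 0, 1, 1, 0, 0, 0, 1, 0, 1, 0, 0, 1, 1, 0,
    0, 0, 1, 0, 1, 0, 1, 1, 1, 0, 1, 0, 1, 1, 1, 1,
    0, 1, 0, 1, 1, 0, 1, 0, 1]

/-- Words for `24` classes of elements centralising the first involution. -/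
def centList : List (List Bool) := [
    [],
    [true, true, false],
    [false, false, true, true, true],
    [true, true, false, true, true, false],
    [true, false, true, true, true, false, true, true],
    [true, false, true, true, false, true, false, true, false, true],
    [true, false, false, true, true, true, false, true, false, true],
    [false, false, true, true, false, true, false, false, true, false, false],
    [true, true, true, true, false, true, false, false, true, false, false],
    [false, false, true, false, false, true, true, false, false, true, false],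
    [true, true, true, false, false, true, true, false, false, true, false],
    [true, false, true, true, false, true, true, true, false, true, false],
    [true, false, false, true, true, false, false, true, false, true, true],
    [true, true, false, true, false, true, true, true, false, true, true],
    [true, false, true, false, true, true, false, true, true, true, false, false],
    [false, true, false, true, true, false, true, true, true, true, false, true],
    [false, true, false, true, false, true, false, true, true, false, true, true],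
    [true, false, true, true, false, true, false, true, false, true, true, true, false],
    [true, false, false, true, true, true, false, true, false, true, true, true, false],
    [false, false, true, false, false, true, false, false, true, true, false, false, true],
    [true, false, true, true, true, true, false, false, true, true, false, false, true],
    [false, true, true, true, true, false, true, true, true, true, false, false, true],
    [false, true, true, true, false, true, false, false, true, true, false, true, true],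
    [true, true, false, true, true, true, true, false, true, false, false, true, false, false]]

/-- The codes of the Sylow subgroup. -/
def sylList : List ℕ := [
    152588281251, 3265480859376, 2563676171876, 1709039453126,
    1007234765626, 14668834501, 3127561412626, 2425756725126,
    1571120006376, 869315318876, 328398606501, 3441291184626,
    2739486497126, 1884849778376, 1183045090876, 324736566001,
    3437629144126, 2735824456626, 1881187737876, 1179383050376,
    15889775501, 3128782353626, 2426977666126, 1572340947376,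
    870536259876, 635538345026, 3748430923151, 3046626235651,
    2191989516901, 1490184829401, 1321698976401, 467052492026,
    3579945070151, 2878140382651, 2023503663901, 1574293982776,
    872489295276, 17842810901, 3130735389026, 2428930701526,
    2425268661026, 1570631942276, 868827254776, 14180770401,
    3127073348526, 3581166011151, 2879361323651, 2024724604901,
    1322919917401, 468273433026, 464122705676, 3577015283801,
    2875210596301, 2020573877551, 1318769190051, 1882652477676,
    1180847790176, 326201305801, 3439093883926, 2737289196426,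
    3752825609051, 3051020921551, 2196384202801, 1494579515301,
    639933030926, 1490917474801, 636270990426, 3749163568551,
    3047358881051, 2192722162301, 2738510137426, 1883873418676,
    1182068731176, 327422246801, 3440314824926, 464855110076,
    3577747688201, 2875943000701, 2021306281951, 1319501594451,
    2738021600826, 1883384882076, 1181580194576, 326933710201,
    3439826288326, 1495311919701, 640665435326, 3753558013451,
    3051753325951, 2197116607201, 3749895972951, 3048091285451,
    2193454566701, 1491649879201, 637003394826, 1884605823076,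
    1182801135576, 328154651201, 3441047229326, 2739242541826,
    635294158226, 3748186736351, 3046382048851, 2191745330101,
    1489940642601, 3579700883351, 2877896195851, 2023259477101,
    1321454789601, 466808305226, 2428686514726, 1574049795976,
    872245108476, 17598624101, 3130491202226, 1570387755476,
    868583067976, 13936583601, 3126829161726, 2425024474226,
    1322675730601, 468029246226, 3580921824351, 2879117136851,
    2024480418101]

/-- Left multiplication by `uA`. -/
def sylA : List ℕ := [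
    25, 26, 27, 28, 29, 30, 31, 32, 33, 34, 35, 36, 37, 38, 39, 40,
    41, 42, 43, 44, 45, 46, 47, 48, 49, 50, 51, 52, 53, 54, 55, 56,
    57, 58, 59, 60, 61, 62, 63, 64, 65, 66, 67, 68, 69, 70, 71, 72,
    73, 74, 75, 76, 77, 78, 79, 80, 81, 82, 83, 84, 85, 86, 87, 88,
    89, 90, 91, 92, 93, 94, 95, 96, 97, 98, 99, 100, 101, 102, 103, 104,
    105, 106, 107, 108, 109, 110, 111, 112, 113, 114, 115, 116, 117, 118, 119, 120,
    121, 122, 123, 124, 0, 1, 2, 3, 4, 5, 6, 7, 8, 9, 10, 11,
    12, 13, 14, 15, 16, 17, 18, 19, 20, 21, 22, 23, 24]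

/-- Left multiplication by `uB`. -/
def sylB : List ℕ := [
    5, 6, 7, 8, 9, 10, 11, 12, 13, 14, 15, 16, 17, 18, 19, 20,
    21, 22, 23, 24, 0, 1, 2, 3, 4, 32, 33, 34, 30, 31, 37, 38,
    39, 35, 36, 42, 43, 44, 40, 41, 47, 48, 49, 45, 46, 27, 28, 29,
    25, 26, 59, 55, 56, 57, 58, 64, 60, 61, 62, 63, 69, 65, 66, 67,
    68, 74, 70, 71, 72, 73, 54, 50, 51, 52, 53, 81, 82, 83, 84, 80,
    86, 87, 88, 89, 85, 91, 92, 93, 94, 90, 96, 97, 98, 99, 95, 76,
    77, 78, 79, 75, 108, 109, 105, 106, 107, 113, 114, 110, 111, 112, 118, 119,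
    115, 116, 117, 123, 124, 120, 121, 122, 103, 104, 100, 101, 102]

/-- The `k`-th involution. -/
def inv (k : ℕ) : Matrix (Fin 3) (Fin 3) K25 := ofCode (invList.getD k 0)

/-- The `k`-th element of the Sylow subgroup. -/
def syl (k : ℕ) : Matrix (Fin 3) (Fin 3) K25 := ofCode (sylList.getD k 0)

/-- The product along a word. -/
def word : List Bool → Matrix (Fin 3) (Fin 3) K25
  | [] => 1
  | b :: w => (if b then gB else gA) * word w

/-- The `j`-th centralising element. -/
def cent (j : ℕ) : Matrix (Fin 3) (Fin 3) K25 := word (centList.getD j [])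

theorem cube_roots : ∀ a b : ZMod 5, (⟨a, b⟩ : K25) * ⟨a, b⟩ * ⟨a, b⟩ = 1 →
    (⟨a, b⟩ : K25) = 1 ∨ (⟨a, b⟩ : K25) = omega ∨ (⟨a, b⟩ : K25) = omega * omega := by
  decide +kernel

theorem gen_spec : IsSU gA ∧ IsSU gB ∧ IsSU gOut ∧ IsSU (inv 0) ∧ IsSU uA ∧ IsSU uB ∧ IsSU uZ ∧
    IsSU uH := by decide +kernel

theorem inv_tab : ∀ k : Fin 105, gA * inv k = inv (tabA.getD k 0) * gA ∧ tabA.getD k 0 < 105 ∧
    gB * inv k = inv (tabB.getD k 0) * gB ∧ tabB.getD k 0 < 105 := by decide +kernel

theorem inv_parent : ∀ k : Fin 105, 0 < (k : ℕ) → parent.getD k 0 < (k : ℕ) ∧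
    (k : ℕ) = (if usedGen.getD k 0 = 0 then tabA else tabB).getD (parent.getD k 0) 0 := by
  decide +kernel

theorem inv_code : ∀ k : Fin 105, code (inv k) = invList.getD k 0 := by decide +kernel

theorem invList_nodup : invList.Nodup := by decide +kernel

theorem invList_length : invList.length = 105 := by decide +kernel

theorem out_spec : ∀ k : Fin 105, gOut * inv 0 ≠ inv k * gOut := by decide +kernel

theorem cent_spec : ∀ j : Fin 24, cent j * inv 0 = inv 0 * cent j := by decide +kernel

theorem cent_distinct : ∀ j j' : Fin 24, j ≠ j' →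
    cent j ≠ cent j' ∧ cent j ≠ omega • cent j' ∧ cent j ≠ (omega * omega) • cent j' := by
  decide +kernel

theorem syl_gen : syl 0 = 1 ∧ syl 25 = uA ∧ syl 5 = uB ∧ syl 1 = uZ ∧ uA ^ 5 = 1 ∧ uB ^ 5 = 1 ∧
    uZ ^ 5 = 1 ∧ uZ * uA = uA * uZ ∧ uZ * uB = uB * uZ ∧ uA * uB ≠ uB * uA ∧ uZ ≠ 1 := by
  decide +kernel

theorem syl_tab : ∀ k : Fin 125, uA * syl k = syl (sylA.getD k 0) ∧ sylA.getD k 0 < 125 ∧
    uB * syl k = syl (sylB.getD k 0) ∧ sylB.getD k 0 < 125 := by decide +kernel

theorem syl_word : ∀ k : Fin 125,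
    syl k = uA ^ ((k : ℕ) / 25) * uB ^ ((k : ℕ) / 5 % 5) * uZ ^ ((k : ℕ) % 5) := by decide +kernel

theorem syl_code : ∀ k : Fin 125, code (syl k) = sylList.getD k 0 := by decide +kernel

theorem sylList_nodup : sylList.Nodup := by decide +kernel

theorem sylList_length : sylList.length = 125 := by decide +kernel

theorem syl_comm : ∀ k : Fin 125, (∃ m : Fin 5, uA * syl k = syl k * uZ ^ (m : ℕ) * uA) ∧
    ∃ m : Fin 5, uB * syl k = syl k * uZ ^ (m : ℕ) * uB := by decide +kernel

theorem torus_spec : uH * uA = syl 15 * uH ∧ uH * uB = syl 25 * uH ∧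
    uH * uZ = uZ ^ 2 * uH := by decide +kernel

theorem exponent_five : ∀ k : Fin 125, syl k ^ 5 = 1 := by decide +kernel

theorem torus_line : ∀ k : Fin 125, 5 ≤ (k : ℕ) → ∀ m n : Fin 5,
    uH * syl k ≠ syl k ^ (m : ℕ) * uZ ^ (n : ℕ) * uH := by decide +kernel

end CfsgLib.KnownA.PSU35
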