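import Mathlib
import Cfsg.Agent.Lib.Coprime.Basic

/-!
An extraspecial group of order `125` normalised by an element moving each maximal subgroup through
its centre: subgroups of index less than `50` contain the centre in their core.
-/

set_option autoImplicit false

namespace CfsgLib.KnownA.PSU35

variable {G : Type*} [Group G] [Finite G]

theorem mem_normalCore_of_index_lt {U : Subgroup G} (hU : Nat.card U = 125) {z h : G} (hz : z ∈ U)
    (hzo : orderOf z = 5) (hzc : ∀ u ∈ U, Commute z u)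
    (hcomm : ∀ u ∈ U, ∀ v ∈ U, ∃ m : ℕ, v * u * v⁻¹ = u * z ^ m)
    (hnab : ∃ u ∈ U, ∃ v ∈ U, ¬ Commute u v) (hhU : ∀ u ∈ U, h * u * h⁻¹ ∈ U)
    (hhz : h * z * h⁻¹ ∈ Subgroup.zpowers z)
    (hline : ∀ u ∈ U, u ∉ Subgroup.zpowers z → ∀ m n : ℕ, h * u * h⁻¹ ≠ u ^ m * z ^ n)
    {H : Subgroup G} (hH : H.index < 50) : z ∈ H.normalCore := by
  classical
  haveI : Fact (Nat.Prime 5) := ⟨by norm_num⟩
  rw [Subgroup.normalCore_eq_ker, MonoidHom.mem_ker]
  refine Equiv.ext fun x => ?_
  show z • x = x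
  by_contra hzx
  -- orbits of moved points have length 25
  have key : ∀ y : G ⧸ H, z • y ≠ y → (MulAction.orbit U y).ncard = 25 ∧
      ∃ w ∈ U, w ∉ Subgroup.zpowers z ∧ w • y = y ∧
        ∀ u ∈ U, u • y = y → u ∈ Subgroup.zpowers w := by
    intro y hy
    set W := U ⊓ MulAction.stabilizer G y with hW
    have hWst : (MulAction.stabilizer U y) = W.subgroupOf U := by
      ext u
      simp only [hW, MulAction.mem_stabilizer_iff, Subgroup.mem_subgroupOf, Subgroup.mem_inf,
        SetLike.coe_mem, true_and]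
      rfl
    have hmul : (MulAction.orbit U y).ncard * Nat.card W = 125 := by
      rw [← MulAction.index_stabilizer, hWst, ← hU, ← (W.subgroupOf U).index_mul_card,
        Nat.card_congr (Subgroup.subgroupOfEquivOfLe (inf_le_left : W ≤ U)).toEquiv]
    have hle : (MulAction.orbit U y).ncard ≤ H.index :=
      (Set.ncard_le_ncard (Set.subset_univ _) (Set.toFinite _)).trans (Set.ncard_univ _).le
    have hzW : z ∉ W := fun h => hy (MulAction.mem_stabilizer_iff.mp h.2)
    obtain ⟨k, hk3, hk⟩ := (Nat.dvd_prime_pow (m := 3) (by norm_num : Nat.Prime 5)).mp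
      (show Nat.card W ∣ 5 ^ 3 from ⟨(MulAction.orbit U y).ncard, by rw [mul_comm]; exact hmul.symm⟩)
    rw [hk] at hmul
    have hinf : W ⊓ Subgroup.zpowers z = ⊥ := by
      rw [eq_bot_iff]
      rintro v ⟨hv, hvz⟩
      by_contra hv1
      have ho : orderOf v = 5 := ((Nat.dvd_prime (by norm_num)).mp
        (hzo ▸ orderOf_dvd_of_mem_zpowers hvz)).resolve_left fun h =>
          hv1 (Subgroup.mem_bot.mpr (orderOf_eq_one_iff.mp h))
      have heq : Subgroup.zpowers v = Subgroup.zpowers z := Subgroup.eq_of_le_of_card_ge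
        (Subgroup.zpowers_le.mpr hvz) (by rw [Nat.card_zpowers, Nat.card_zpowers, hzo, ho])
      exact hzW ((heq ▸ Subgroup.zpowers_le.mpr hv :) (Subgroup.mem_zpowers z))
    interval_cases k
    · omega
    · refine ⟨by omega, ?_⟩
      obtain ⟨⟨w, hw⟩, hw1⟩ := (Subgroup.ne_bot_iff_exists_ne_one (H := W)).mp fun hb => by
        rw [hb, Subgroup.card_bot] at hk
        omega
      refine ⟨w, hw.1, fun hwz => hw1 (Subtype.ext ?_), hw.2, fun u hu huy => ?_⟩
      · have h : w ∈ W ⊓ Subgroup.zpowers z := ⟨hw, hwz⟩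
        rwa [hinf, Subgroup.mem_bot] at h
      · have htop := zpowers_eq_top_of_prime_card (G := W) (by rw [hk, pow_one]) hw1
        obtain ⟨i, hi⟩ := Subgroup.mem_zpowers_iff.mp
          (htop ▸ Subgroup.mem_top (⟨u, hu, huy⟩ : W))
        exact ⟨i, by simpa using congrArg Subtype.val hi⟩
    · exfalso
      haveI : IsMulCommutative W := IsPGroup.isMulCommutative_of_card_eq_prime_sq (p := 5) hk
      have hWn : Subgroup.zpowers z ≤ Subgroup.normalizer (W : Set G) :=
        le_trans (Subgroup.zpowers_le.mpr (Subgroup.mem_centralizer_iff.mpr fun u hu =>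
          (hzc u hu.1).eq.symm)) (Subgroup.centralizer_le_normalizer _)
      have hcard := CfsgLib.Coprime.card_sup_of_inf_eq_bot hWn (inf_comm W _ ▸ hinf)
      rw [hk, Nat.card_zpowers, hzo] at hcard
      have hsup : Subgroup.zpowers z ⊔ W = U := Subgroup.eq_of_le_of_card_ge
        (sup_le (Subgroup.zpowers_le.mpr hz) inf_le_left) (by rw [hU, hcard]; norm_num)
      obtain ⟨u, hu, v, hv, huv⟩ := hnab
      rw [← hsup] at hu hv
      obtain ⟨a, ha, b, hb, rfl⟩ := (CfsgLib.Coprime.mem_sup_iff_of_le_normalizer hWn).mp hu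
      obtain ⟨c, hc, d, hd, rfl⟩ := (CfsgLib.Coprime.mem_sup_iff_of_le_normalizer hWn).mp hv
      obtain ⟨i, rfl⟩ := Subgroup.mem_zpowers_iff.mp ha
      obtain ⟨j, rfl⟩ := Subgroup.mem_zpowers_iff.mp hc
      have h1 : Commute b d :=
        congrArg Subtype.val (mul_comm' (⟨b, hb⟩ : W) ⟨d, hd⟩)
      have hzb : Commute z b := hzc b hb.1
      have hzd : Commute z d := hzc d hd.1
      exact huv ((((Commute.refl z).zpow_zpow i j).mul_right (hzd.zpow_left i)).mul_left
        (((hzb.zpow_left j).symm).mul_right h1))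
    · exfalso
      have hWU : W = U :=
        Subgroup.eq_of_le_of_card_ge (inf_le_left : W ≤ U) (by rw [hk, hU]; norm_num)
      exact hzW (hWU.symm ▸ hz)
  obtain ⟨hx25, w, hwU, hwz, hwx, hwgen⟩ := key x hzx
  have hzy : z • (h • x) ≠ h • x := by
    intro h0
    refine hzx (smul_left_cancel h ?_)
    obtain ⟨i, hi⟩ := Subgroup.mem_zpowers_iff.mp hhz
    have hst : z ∈ MulAction.stabilizer G (h • x) := h0
    have h1 : z ^ i • (h • x) = h • x := Subgroup.zpow_mem _ hst i
    rw [hi, smul_smul, inv_mul_cancel_right, mul_smul] at h1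
    exact h1
  obtain ⟨hy25, -⟩ := key (h • x) hzy
  have hmem : h • x ∈ MulAction.orbit U x := by
    rcases MulAction.orbit.eq_or_disjoint (h • x) x (G := U) with he | he
    · exact he ▸ MulAction.mem_orbit_self _
    · exfalso
      have h1 := (Set.ncard_union_eq he (Set.toFinite _) (Set.toFinite _)).ge.trans
        ((Set.ncard_le_ncard (Set.subset_univ _) (Set.toFinite _)).trans (Set.ncard_univ _).le)
      rw [hx25, hy25] at h1
      change 50 ≤ H.index at h1
      omega
  obtain ⟨⟨v, hv⟩, hvx⟩ := hmem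
  change v • x = h • x at hvx
  have hfix : (v⁻¹ * (h * w * h⁻¹) * v) • x = x := by
    rw [mul_smul, mul_smul, hvx, mul_smul, mul_smul, inv_smul_smul, hwx, ← hvx, inv_smul_smul]
  have hmemU : v⁻¹ * (h * w * h⁻¹) * v ∈ U := U.mul_mem (U.mul_mem (U.inv_mem hv) (hhU w hwU)) hv
  obtain ⟨i, hi⟩ := (IsOfFinOrder.mem_powers_iff_mem_zpowers (isOfFinOrder_of_finite w)).mpr
    (hwgen _ hmemU hfix)
  simp only at hi
  obtain ⟨m, hm⟩ := hcomm _ (U.pow_mem hwU i) v hv
  refine hline w hwU hwz i m ?_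
  rw [← hm, hi]
  group

end CfsgLib.KnownA.PSU35
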