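import Cfsg.Prelude.Def_Classical
import Cfsg.Agent.Lib.Classical.UnitarySimple
import Cfsg.Agent.Lib.Classical.UnitaryOrder
import Cfsg.Agent.Lib.KnownA.PSU35.Data
import Cfsg.Agent.Lib.KnownA.PSU35.Lower

/-!
The minimal index of a proper subgroup of `PSU₃(5)` is `50`.
-/

set_option autoImplicit false
set_option linter.style.haveILetI false

namespace CfsgLib.KnownA.PSU35

open Matrix

variable {F : Type*} [Field F] [Fintype F]

theorem exists_ringEquiv (hF : Fintype.card F = 25) : Nonempty (K25 ≃+* F) := by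
  haveI : Fact (∀ r : ZMod 5, r ^ 2 ≠ (2 : ZMod 5) + 0 * r) := ⟨by decide⟩
  haveI : Fact (Nat.Prime 5) := ⟨by norm_num⟩
  haveI : Finite K25 := Finite.of_equiv _ (QuadraticAlgebra.equivProd (2 : ZMod 5) 0).symm
  letI := Fintype.ofFinite K25
  have h : Fintype.card K25 = 25 := by
    rw [← Nat.card_eq_fintype_card, Nat.card_congr (QuadraticAlgebra.equivProd (2 : ZMod 5) 0),
      Nat.card_prod, Nat.card_zmod]
  exact ⟨FiniteField.ringEquivOfCardEq (h.trans hF.symm)⟩

theorem charP_five (hF : Fintype.card F = 25) : CharP F 5 := by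
  obtain ⟨p, hc⟩ := CharP.exists F
  haveI := hc
  obtain ⟨n, hp, hn⟩ := FiniteField.card F p
  rw [hF] at hn
  have h : p ∣ 5 := hp.dvd_of_dvd_pow (show p ∣ 5 ^ 2 from
    (show (5 : ℕ) ^ 2 = p ^ (n : ℕ) from hn) ▸ dvd_pow_self p n.ne_zero)
  rwa [(Nat.prime_dvd_prime_iff_eq hp (by norm_num)).1 h] at hc

theorem hermForm_mulVec_five [CharP F 5] (A : Matrix (Fin 3) (Fin 3) F) (u v : Fin 3 → F) :
    Cfsg.hermForm 3 F 5 (A *ᵥ u) (A *ᵥ v) =
      u ⬝ᵥ ((A.transpose * A.map (fun x => x * x * x * x * x)) *ᵥ fun i => v i ^ 5) := by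
  haveI : Fact (Nat.Prime 5) := ⟨by norm_num⟩
  rw [← Matrix.mulVec_mulVec, Matrix.dotProduct_mulVec, Matrix.vecMul_transpose]
  show ∑ i, (A *ᵥ u) i * (A *ᵥ v) i ^ 5 = ∑ i, _
  refine Finset.sum_congr rfl fun i _ => ?_
  congr 1
  show (∑ j, A i j * v j) ^ 5 = ∑ j, (A i j * A i j * A i j * A i j * A i j) * v j ^ 5
  rw [sum_pow_char]
  exact Finset.sum_congr rfl fun j _ => by ring

/-- The elements of `SU₃(5)` as matrices over the concrete field. -/
def toK (φ : K25 ≃+* F) : Cfsg.SU 3 F 5 →* Matrix (Fin 3) (Fin 3) K25 where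
  toFun s := (φ.symm : F →+* K25).mapMatrix s.1.1
  map_one' := by simp
  map_mul' s t := by simp

theorem toK_injective (φ : K25 ≃+* F) : Function.Injective (toK φ) := fun s t h =>
  Subtype.ext (Subtype.ext (Matrix.map_injective φ.symm.injective h))

theorem exists_toK [CharP F 5] (φ : K25 ≃+* F) {W : Matrix (Fin 3) (Fin 3) K25} (hW : IsSU W) :
    ∃ g : Cfsg.SU 3 F 5, toK φ g = W := by
  let g₁ : Matrix.SpecialLinearGroup (Fin 3) F := ⟨W.map φ, by
    rw [← RingEquiv.coe_toRingHom, ← RingHom.mapMatrix_apply, ← RingHom.map_det, hW.1, map_one]⟩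
  refine ⟨⟨g₁, fun u v => ?_⟩, ?_⟩
  · show Cfsg.hermForm 3 F 5 (W.map φ *ᵥ u) (W.map φ *ᵥ v) = _
    rw [hermForm_mulVec_five]
    have e' : (W.map φ).transpose * (W.map φ).map (fun x => x * x * x * x * x) = 1 := by
      have h0 := congrArg (fun X => (φ : K25 →+* F).mapMatrix X) hW.2
      simp only [map_mul, map_one] at h0
      rw [← h0]
      congr 1
      ext p r; simp
    rw [e', Matrix.one_mulVec]; rfl
  · show (φ.symm : F →+* K25).mapMatrix (W.map φ) = W
    exact Matrix.ext fun i j => by simp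

theorem toK_center (hF : Fintype.card F = 25) (φ : K25 ≃+* F) {g : Cfsg.SU 3 F 5}
    (hg : g ∈ Subgroup.center (Cfsg.SU 3 F 5)) :
    toK φ g = 1 ∨ toK φ g = omega • 1 ∨ toK φ g = (omega * omega) • 1 := by
  obtain ⟨c, -, hc3, hc⟩ := CfsgLib.Classical.SU_center_scalar
    (show Nat.card F = 5 ^ 2 by rw [Nat.card_eq_fintype_card, hF]; norm_num) (by norm_num) hg
  have h : toK φ g = φ.symm c • (1 : Matrix (Fin 3) (Fin 3) K25) := by
    show (φ.symm : F →+* K25).mapMatrix g.1.1 = _
    rw [hc]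
    refine Matrix.ext fun i j => ?_
    rw [RingHom.mapMatrix_apply, Matrix.map_apply, Matrix.smul_apply, Matrix.diagonal_apply,
      Matrix.one_apply]
    split_ifs <;> simp
  obtain ⟨a, b, hab⟩ : ∃ a b : ZMod 5, φ.symm c = ⟨a, b⟩ := ⟨_, _, rfl⟩
  have h3 : (⟨a, b⟩ : K25) * ⟨a, b⟩ * ⟨a, b⟩ = 1 := by
    rw [← hab, ← map_mul, ← map_mul, ← map_one φ.symm, ← hc3]
    congr 1
    ring
  rw [h, hab]
  rcases cube_roots a b h3 with e | e | e
  · exact Or.inl (by rw [e, one_smul])
  · exact Or.inr (Or.inl (by rw [e]))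
  · exact Or.inr (Or.inr (by rw [e]))

theorem card_PSU_three_five (hF : Fintype.card F = 25) : Nat.card (Cfsg.PSU 3 F 5) = 126000 := by
  have hF' : Nat.card F = 5 ^ 2 := by rw [Nat.card_eq_fintype_card, hF]; norm_num
  have hc := CfsgLib.Classical.card_PSU_mul hF' (n := 3) (by norm_num)
  rw [CfsgLib.Classical.card_GU hF'] at hc
  simp [Finset.prod_range_succ] at hc
  omega

/-- The elements of a finite group preserving a family up to conjugation form a subgroup. -/
theorem closure_preserves {G : Type*} [Group G] [Finite G] {ι : Type*} (S : ι → G) {X : Set G}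
    (hX : ∀ x ∈ X, ∀ k, ∃ k', x * S k = S k' * x) {g : G} (hg : g ∈ Subgroup.closure X) (k : ι) :
    ∃ k', g * S k = S k' * g := by
  rw [← Subgroup.mem_toSubmonoid, Subgroup.closure_toSubmonoid_of_finite] at hg
  revert k
  induction hg using Submonoid.closure_induction with
  | mem x hx => exact hX x hx
  | one => exact fun k => ⟨k, by rw [one_mul, mul_one]⟩
  | mul a b _ _ ha hb =>
    intro k
    obtain ⟨k₁, hk₁⟩ := hb k
    obtain ⟨k₂, hk₂⟩ := ha k₁
    exact ⟨k₂, by rw [mul_assoc, hk₁, ← mul_assoc, hk₂, mul_assoc]⟩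

theorem index_ge (hF : Fintype.card F = 25) (H : Subgroup (Cfsg.PSU 3 F 5)) (hH : H ≠ ⊤) :
    50 ≤ H.index := by
  classical
  haveI := charP_five hF
  have hF' : Nat.card F = 5 ^ 2 := by rw [Nat.card_eq_fintype_card, hF]; norm_num
  obtain ⟨φ⟩ := exists_ringEquiv hF
  obtain ⟨-, -, -, -, hA, hB, hZ, hT⟩ := gen_spec
  obtain ⟨sa, hsa⟩ := exists_toK φ hA
  obtain ⟨sb, hsb⟩ := exists_toK φ hB
  obtain ⟨sz, hsz⟩ := exists_toK φ hZ
  obtain ⟨sh, hsh⟩ := exists_toK φ hT
  obtain ⟨h0, -, -, h1, hA5, hB5, hZ5, hZA, hZB, hAB, hZ1⟩ := syl_gen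
  have hinj := toK_injective φ
  -- the elements of the Sylow subgroup
  let e : ℕ → Cfsg.SU 3 F 5 := fun k => sa ^ (k / 25) * sb ^ (k / 5 % 5) * sz ^ (k % 5)
  have he : ∀ k : Fin 125, toK φ (e k) = syl k := fun k => by
    simp only [e, map_mul, map_pow, hsa, hsb, hsz]
    exact (syl_word k).symm
  have hza : Commute sz sa := hinj (by rw [map_mul, map_mul, hsa, hsz, hZA])
  have hzb : Commute sz sb := hinj (by rw [map_mul, map_mul, hsb, hsz, hZB])
  have hze : ∀ k, Commute sz (e k) := fun k =>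
    ((hza.pow_right _).mul_right (hzb.pow_right _)).mul_right ((Commute.refl sz).pow_right _)
  let U : Subgroup (Cfsg.SU 3 F 5) := Subgroup.closure {sa, sb}
  have hmem : ∀ u ∈ U, ∃ k : Fin 125, u = e k := by
    intro u hu
    rw [← Subgroup.mem_toSubmonoid, Subgroup.closure_toSubmonoid_of_finite] at hu
    induction hu using Submonoid.closure_induction_left with
    | one => exact ⟨0, hinj (by rw [map_one, he]; exact h0.symm)⟩
    | mul_left x hx y _ ih =>
      obtain ⟨k, rfl⟩ := ih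
      obtain ⟨ha1, ha2, hb1, hb2⟩ := syl_tab k
      rcases hx with rfl | rfl
      · exact ⟨⟨_, ha2⟩, hinj (by rw [map_mul, hsa, he, he, ha1])⟩
      · exact ⟨⟨_, hb2⟩, hinj (by rw [map_mul, hsb, he, he, hb1])⟩
  have haU : sa ∈ U := Subgroup.subset_closure (by simp)
  have hbU : sb ∈ U := Subgroup.subset_closure (by simp)
  obtain ⟨⟨m, hm⟩, -⟩ : (∃ m : Fin 5, sa * sb * sa⁻¹ = sb * sz ^ (m : ℕ)) ∧ True := by
    obtain ⟨⟨m, hm⟩, -⟩ := syl_comm 5
    refine ⟨⟨m, ?_⟩, trivial⟩
    rw [mul_inv_eq_iff_eq_mul]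
    refine hinj ?_
    rw [map_mul, map_mul, map_mul, map_pow, hsa, hsb, hsz]
    obtain ⟨-, -, h5, -⟩ := syl_gen
    rw [← h5]; exact hm
  have hzU : sz ∈ U := by
    have hm0 : (m : ℕ) ≠ 0 := fun h => hAB (by
      rw [h, pow_zero, mul_one, mul_inv_eq_iff_eq_mul] at hm
      rw [← hsa, ← hsb, ← map_mul, ← map_mul, hm])
    have hzm : sz ^ (m : ℕ) ∈ U := by
      have h' : sz ^ (m : ℕ) = sb⁻¹ * (sa * sb * sa⁻¹) := by rw [hm, inv_mul_cancel_left]
      rw [h']
      exact U.mul_mem (U.inv_mem hbU) (U.mul_mem (U.mul_mem haU hbU) (U.inv_mem haU))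
    haveI : Fact (Nat.Prime 5) := ⟨by norm_num⟩
    have hcop : (m : ℕ).Coprime 5 := ((Nat.Prime.coprime_iff_not_dvd (by norm_num)).mpr fun hd => by
      have := Nat.le_of_dvd (Nat.pos_of_ne_zero hm0) hd
      have := m.2
      omega).symm
    obtain ⟨j, -, hj⟩ := Nat.exists_mul_mod_eq_one_of_coprime hcop (by norm_num : 1 < 5)
    have h5 : sz ^ 5 = 1 := hinj (by rw [map_pow, hsz, hZ5, map_one])
    have := U.pow_mem hzm j
    rwa [← pow_mul, pow_eq_pow_mod _ h5, hj, pow_one] at this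
  have heU : ∀ k : Fin 125, e k ∈ U := fun k =>
    U.mul_mem (U.mul_mem (U.pow_mem haU _) (U.pow_mem hbU _)) (U.pow_mem hzU _)
  have heinj : Function.Injective fun k : Fin 125 => e k := by
    intro i j h
    have h' : sylList.getD i 0 = sylList.getD j 0 := by
      rw [← syl_code, ← syl_code, ← he, ← he]
      exact congrArg (fun s => code (toK φ s)) h
    have hi : (i : ℕ) < sylList.length := by rw [sylList_length]; exact i.2
    have hj : (j : ℕ) < sylList.length := by rw [sylList_length]; exact j.2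
    rw [List.getD_eq_getElem _ _ hi, List.getD_eq_getElem _ _ hj] at h'
    exact Fin.ext ((sylList_nodup.getElem_inj_iff).1 h')
  have hU : Nat.card U = 125 := by
    rw [← Nat.card_eq_of_bijective (fun k : Fin 125 => (⟨e k, heU k⟩ : U))
      ⟨fun i j h => heinj (congrArg Subtype.val h),
        fun ⟨u, hu⟩ => (hmem u hu).imp fun k hk => Subtype.ext hk.symm⟩, Nat.card_fin]
  have hzc : ∀ u ∈ U, Commute sz u := fun u hu => by
    obtain ⟨k, rfl⟩ := hmem u hu
    exact hze k
  have hcomm : ∀ u ∈ U, ∀ v ∈ U, ∃ i : ℕ, v * u * v⁻¹ = u * sz ^ i := by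
    intro u hu v hv
    rw [← Subgroup.mem_toSubmonoid, Subgroup.closure_toSubmonoid_of_finite] at hv
    revert u
    induction hv using Submonoid.closure_induction with
    | mem x hx =>
      intro u hu
      obtain ⟨k, rfl⟩ := hmem u hu
      obtain ⟨⟨i, hi⟩, ⟨j, hj⟩⟩ := syl_comm k
      rcases hx with rfl | rfl
      · exact ⟨i, mul_inv_eq_iff_eq_mul.mpr
          (hinj (by rw [map_mul, hsa, he, map_mul, hsa, map_mul, map_pow, hsz, he, hi]))⟩
      · exact ⟨j, mul_inv_eq_iff_eq_mul.mpr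
          (hinj (by rw [map_mul, hsb, he, map_mul, hsb, map_mul, map_pow, hsz, he, hj]))⟩
    | one => exact fun u _ => ⟨0, by simp⟩
    | mul a b ha' _ ha hb =>
      intro u hu
      have haU' : a ∈ U := by
        rw [← Subgroup.mem_toSubmonoid, Subgroup.closure_toSubmonoid_of_finite]; exact ha'
      obtain ⟨i, hi⟩ := hb u hu
      obtain ⟨j, hj⟩ := ha u hu
      refine ⟨j + i, ?_⟩
      have hzi : a * sz ^ i * a⁻¹ = sz ^ i := by
        rw [← ((hzc a haU').pow_left i).eq, mul_inv_cancel_right]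
      calc a * b * u * (a * b)⁻¹ = a * (b * u * b⁻¹) * a⁻¹ := by group
        _ = a * u * a⁻¹ * (a * sz ^ i * a⁻¹) := by rw [hi]; group
        _ = _ := by rw [hj, hzi, pow_add, mul_assoc]
  have hhU : ∀ u ∈ U, sh * u * sh⁻¹ ∈ U := by
    have hle : U ≤ U.comap (MulAut.conj sh).toMonoidHom := by
      rw [Subgroup.closure_le]
      obtain ⟨hta, htb, -⟩ := torus_spec
      rintro x (rfl | rfl)
      · show sh * x * sh⁻¹ ∈ U
        rw [show sh * x * sh⁻¹ = e (15 : Fin 125) from mul_inv_eq_iff_eq_mul.mpr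
          (hinj (by rw [map_mul, map_mul, hsh, hsa, he]; exact hta))]
        exact heU _
      · show sh * x * sh⁻¹ ∈ U
        rw [show sh * x * sh⁻¹ = e (25 : Fin 125) from mul_inv_eq_iff_eq_mul.mpr
          (hinj (by rw [map_mul, map_mul, hsh, hsb, he]; exact htb))]
        exact heU _
    exact fun u hu => hle hu
  have hz5 : sz ^ 5 = 1 := hinj (by rw [map_pow, hsz, hZ5, map_one])
  have hzo : orderOf sz = 5 := by
    haveI : Fact (Nat.Prime 5) := ⟨by norm_num⟩
    exact orderOf_eq_prime hz5 fun h => hZ1 (by rw [← hsz, h, map_one])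
  have hhz : sh * sz * sh⁻¹ ∈ Subgroup.zpowers sz := by
    obtain ⟨-, -, htz⟩ := torus_spec
    rw [show sh * sz * sh⁻¹ = sz ^ 2 from mul_inv_eq_iff_eq_mul.mpr
      (hinj (by rw [map_mul, map_mul, map_pow, hsh, hsz]; exact htz))]
    exact Subgroup.pow_mem _ (Subgroup.mem_zpowers sz) 2
  have hline : ∀ u ∈ U, u ∉ Subgroup.zpowers sz → ∀ a b : ℕ,
      sh * u * sh⁻¹ ≠ u ^ a * sz ^ b := by
    intro u hu huz a b heq
    obtain ⟨k, rfl⟩ := hmem u hu
    have hk5 : 5 ≤ (k : ℕ) := by
      by_contra hlt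
      refine huz ?_
      simp only [e, Nat.div_eq_of_lt (show (k : ℕ) < 25 by omega),
        Nat.div_eq_of_lt (show (k : ℕ) < 5 by omega), Nat.zero_mod, pow_zero, one_mul]
      exact Subgroup.pow_mem _ (Subgroup.mem_zpowers sz) _
    have hu5 : e k ^ 5 = 1 := hinj (by rw [map_pow, he, exponent_five k, map_one])
    refine torus_line k hk5 ⟨a % 5, Nat.mod_lt _ (by norm_num)⟩ ⟨b % 5, Nat.mod_lt _ (by norm_num)⟩ ?_
    rw [pow_eq_pow_mod a hu5, pow_eq_pow_mod b hz5, mul_inv_eq_iff_eq_mul] at heq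
    have h := congrArg (toK φ) heq
    simp only [map_mul, map_pow, hsh, hsz, he] at h
    exact h
  have hnab : ∃ u ∈ U, ∃ v ∈ U, ¬ Commute u v := ⟨sa, haU, sb, hbU, fun h => hAB (by
    rw [← hsa, ← hsb, ← map_mul, ← map_mul, h.eq])⟩
  by_contra hlt
  rw [not_le] at hlt
  let π := QuotientGroup.mk' (Subgroup.center (Cfsg.SU 3 F 5))
  have hzcore := mem_normalCore_of_index_lt hU hzU hzo hzc hcomm hnab hhU hhz hline
    (H := H.comap π) (by rwa [Subgroup.index_comap_of_surjective _ (QuotientGroup.mk'_surjective _)])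
  haveI := CfsgLib.Classical.Unitary.isSimpleGroup_PSU hF' le_rfl (fun _ => by norm_num)
  have hcore : H.normalCore = ⊥ := (Subgroup.normalCore_normal H).eq_bot_or_eq_top.resolve_right
    fun h => hH (top_le_iff.mp (h ▸ Subgroup.normalCore_le H))
  have hzH : π sz ∈ H.normalCore := by
    intro g
    obtain ⟨s, rfl⟩ := QuotientGroup.mk'_surjective _ g
    have := hzcore s
    rw [Subgroup.mem_comap, map_mul, map_mul, map_inv] at this
    exact this
  rw [hcore, Subgroup.mem_bot] at hzH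
  have hzc' : sz ∈ Subgroup.center (Cfsg.SU 3 F 5) := (QuotientGroup.eq_one_iff sz).mp hzH
  have h3 : toK φ sz ^ 3 = 1 := by
    rcases toK_center hF φ hzc' with h | h | h <;> rw [h]
    · rw [one_pow]
    · rw [smul_pow, one_pow]
      rw [show omega ^ 3 = 1 by decide +kernel, one_smul]
    · rw [smul_pow, one_pow]
      rw [show (omega * omega) ^ 3 = 1 by decide +kernel, one_smul]
  rw [← map_pow, ← map_one (toK φ)] at h3
  have hd := orderOf_dvd_of_pow_eq_one (hinj h3)
  rw [hzo] at hd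
  norm_num at hd

theorem exists_index_eq (hF : Fintype.card F = 25) :
    ∃ H : Subgroup (Cfsg.PSU 3 F 5), H.index = 50 := by
  classical
  haveI := charP_five hF
  obtain ⟨φ⟩ := exists_ringEquiv hF
  obtain ⟨hA, hB, hO, hI, -, -, -, -⟩ := gen_spec
  obtain ⟨sa, hsa⟩ := exists_toK φ hA
  obtain ⟨sb, hsb⟩ := exists_toK φ hB
  obtain ⟨so, hso⟩ := exists_toK φ hO
  obtain ⟨st, hst⟩ := exists_toK φ hI
  have hinj := toK_injective φ
  let K : Subgroup (Cfsg.SU 3 F 5) := Subgroup.closure {sa, sb}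
  have haK : sa ∈ K := Subgroup.subset_closure (by simp)
  have hbK : sb ∈ K := Subgroup.subset_closure (by simp)
  -- every involution of the class is reached
  have hreach : ∀ n, ∀ hn : n < 105, ∃ x ∈ K, toK φ x * inv 0 = inv n * toK φ x := by
    intro n
    induction n using Nat.strong_induction_on with
    | _ n ih =>
      intro hn
      rcases Nat.eq_zero_or_pos n with rfl | hpos
      · exact ⟨1, one_mem K, by rw [map_one, one_mul, mul_one]⟩
      obtain ⟨hlt, he⟩ := inv_parent ⟨n, hn⟩ hpos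
      dsimp only at hlt he
      obtain ⟨x, hx, hxe⟩ := ih _ hlt (hlt.trans hn)
      obtain ⟨ha1, -, hb1, -⟩ := inv_tab ⟨parent.getD n 0, hlt.trans hn⟩
      dsimp only at ha1 hb1
      rcases Classical.em (usedGen.getD n 0 = 0) with h | h
      · rw [if_pos h] at he
        exact ⟨sa * x, K.mul_mem haK hx, by
          rw [map_mul, hsa, mul_assoc, hxe, ← mul_assoc, ha1, ← he, mul_assoc]⟩
      · rw [if_neg h] at he
        exact ⟨sb * x, K.mul_mem hbK hx, by
          rw [map_mul, hsb, mul_assoc, hxe, ← mul_assoc, hb1, ← he, mul_assoc]⟩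
  choose r hrK hr using fun k : Fin 105 => hreach k k.2
  obtain ⟨S, hSdef⟩ : ∃ S : Fin 105 → Cfsg.SU 3 F 5, ∀ k, S k = r k * st * (r k)⁻¹ :=
    ⟨_, fun _ => rfl⟩
  have hS : ∀ k, toK φ (S k) = inv k := fun k => by
    have h : S k * r k = r k * st := by rw [hSdef, inv_mul_cancel_right]
    have h1 := congrArg (toK φ) h
    rw [map_mul, map_mul, hst, hr k] at h1
    have h2 : toK φ (r k) * toK φ (r k)⁻¹ = 1 := by rw [← map_mul, mul_inv_cancel, map_one]
    calc toK φ (S k) = toK φ (S k) * (toK φ (r k) * toK φ (r k)⁻¹) := by rw [h2, mul_one]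
      _ = inv k * (toK φ (r k) * toK φ (r k)⁻¹) := by rw [← mul_assoc, h1, mul_assoc]
      _ = inv k := by rw [h2, mul_one]
  have hKS : ∀ g ∈ K, ∀ k, ∃ k', g * S k = S k' * g := fun g hg k =>
    closure_preserves S (fun x hx k => by
      obtain ⟨ha1, ha2, hb1, hb2⟩ := inv_tab k
      rcases hx with rfl | rfl
      · exact ⟨⟨_, ha2⟩, hinj (by rw [map_mul, map_mul, hsa, hS, hS, ha1])⟩
      · exact ⟨⟨_, hb2⟩, hinj (by rw [map_mul, map_mul, hsb, hS, hS, hb1])⟩) hg k
  let π := QuotientGroup.mk' (Subgroup.center (Cfsg.SU 3 F 5))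
  have hcent : ∀ {g c : Cfsg.SU 3 F 5}, c ∈ Subgroup.center (Cfsg.SU 3 F 5) → c * g = g * c :=
    fun {g c} hc => (Subgroup.mem_center_iff.mp hc g).symm
  have hne : K.map π ≠ ⊤ := by
    intro htop
    obtain ⟨g, hg, hgo⟩ : π so ∈ K.map π := htop ▸ Subgroup.mem_top _
    have hc : g⁻¹ * so ∈ Subgroup.center (Cfsg.SU 3 F 5) := QuotientGroup.eq.mp hgo
    obtain ⟨k', hk'⟩ := hKS g hg 0
    refine out_spec k' ?_
    have h : so * S 0 = S k' * so := by
      rw [show so = g * (g⁻¹ * so) by group, mul_assoc, hcent hc, ← mul_assoc, hk', mul_assoc]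
    have h' := congrArg (toK φ) h
    simpa only [map_mul, hso, hS, Fin.val_zero] using h'
  -- words
  let wd : List Bool → Cfsg.SU 3 F 5 := fun w => (w.map fun b => if b then sb else sa).prod
  have hwd : ∀ w, toK φ (wd w) = word w ∧ wd w ∈ K := by
    intro w
    induction w with
    | nil => exact ⟨map_one _, one_mem K⟩
    | cons b w ih =>
      simp only [wd, List.map_cons, List.prod_cons] at ih ⊢
      refine ⟨?_, K.mul_mem (by split_ifs <;> assumption) ih.2⟩
      rw [map_mul, ih.1, word, apply_ite (toK φ), hsa, hsb]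
  let c : Fin 24 → Cfsg.SU 3 F 5 := fun j => wd (centList.getD j [])
  have hc : ∀ j, toK φ (c j) = cent j := fun j => (hwd _).1
  have hct : ∀ j, c j * st = st * c j := fun j => hinj (by
    rw [map_mul, map_mul, hc, hst]; exact cent_spec j)
  have hlarge : 2520 ≤ Nat.card (K.map π) := by
    let f : Fin 105 × Fin 24 → K.map π := fun p =>
      ⟨π (r p.1 * c p.2), r p.1 * c p.2, K.mul_mem (hrK _) (hwd _).2, rfl⟩
    have hf : Function.Injective f := by
      rintro ⟨k, j⟩ ⟨k', j'⟩ h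
      have hd := QuotientGroup.eq.mp (congrArg Subtype.val h)
      set d := (r k * c j)⁻¹ * (r k' * c j') with hddef
      have he : r k' * c j' = r k * c j * d := by rw [hddef, mul_inv_cancel_left]
      have hkk : S k = S k' := by
        calc S k = r k * c j * st * (r k * c j)⁻¹ := by
              rw [hSdef]; rw [mul_assoc (r k) (c j), hct]; group
          _ = r k * c j * (d * st * d⁻¹) * (r k * c j)⁻¹ := by
              rw [hcent hd, mul_inv_cancel_right]
          _ = r k' * c j' * st * (r k' * c j')⁻¹ := by rw [he]; group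
          _ = S k' := by rw [hSdef]; rw [mul_assoc (r k') (c j'), hct]; group
      obtain rfl : k = k' := by
        have h' : invList.getD k 0 = invList.getD k' 0 := by
          rw [← inv_code, ← inv_code, ← hS, ← hS, hkk]
        have hi : (k : ℕ) < invList.length := by rw [invList_length]; exact k.2
        have hj : (k' : ℕ) < invList.length := by rw [invList_length]; exact k'.2
        rw [List.getD_eq_getElem _ _ hi, List.getD_eq_getElem _ _ hj] at h'
        exact Fin.ext ((invList_nodup.getElem_inj_iff).1 h')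
      have hcj : c j' = c j * d := mul_left_cancel (he.trans (mul_assoc _ _ _))
      have hk := congrArg (toK φ) hcj
      rw [map_mul, hc, hc] at hk
      by_contra hjj
      obtain ⟨n1, n2, n3⟩ := cent_distinct j' j fun h => hjj (by rw [h])
      rcases toK_center hF φ hd with e | e | e <;> rw [e] at hk
      · exact n1 (hk.trans (mul_one _))
      · exact n2 (hk.trans (by rw [mul_smul_comm, mul_one]))
      · exact n3 (hk.trans (by rw [mul_smul_comm, mul_one]))
    simpa using Nat.card_le_card_of_injective f hf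
  refine ⟨K.map π, le_antisymm ?_ (index_ge hF _ hne)⟩
  have h := (K.map π).card_mul_index
  rw [card_PSU_three_five hF] at h
  by_contra hgt
  push Not at hgt
  have := Nat.mul_le_mul hlarge (Nat.succ_le_iff.mpr hgt)
  omega

end CfsgLib.KnownA.PSU35
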